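import Cfsg.Agent.H947.Sy.Psu3
import Cfsg.Agent.H333.HallHig
import Cfsg.Agent.H959.T5.Tools

/-!
# The row `PSU₃(q)` of S3854 (helper248, task 2806): `noT_psu3`
-/

set_option autoImplicit false
set_option linter.unusedSectionVars false

namespace Cfsg.Agent.H248.T5

open Subgroup Cfsg Cfsg.Agent.H459.Rad Cfsg.Agent.H459.Iface Matrix Cfsg.Agent.H301.SY Cfsg.Agent.H724.UThree
open Cfsg.Agent.H959.T5 Cfsg.Agent.H959.Rad3 Cfsg.Agent.H947.Sy
open Cfsg.Agent.ClassicalGeometry.UnitAutBasic (pr pr_surjective)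

theorem noT_psu {F : Type} [Field F] [Fintype F] {q : ℕ} [IsSimpleGroup (PSU 3 F q)] (hF : Fintype.card F = q ^ 2)
    (hq : q ≠ 2) (hna : ¬ IsMulCommutative (PSU 3 F q)) (h2 : 2 ∣ Nat.card (PSU 3 F q)) {p : ℕ} [hp : Fact p.Prime]
    (hp5 : 5 ≤ p) : NoT p (PSU 3 F q) := by
  intro x hx hR hT
  obtain ⟨g, hg, rfl, hd⟩ := exists_inner hF hq hp5 hx hR
  have hZ : center (PSU 3 F q) = ⊥ := center_eq_bot hna
  have hos : orderOf (pr 3 F q g) = p := by
    rw [← hx]
    exact (orderOf_injective (MulAut.conj : PSU 3 F q →* MulAut (PSU 3 F q)) (conj_injective hZ) _).symm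
  have hg1 : g ≠ 1 := by
    rintro rfl
    rw [map_one, orderOf_one] at hos
    omega
  have hcyc : ∀ P : Sylow p (PSU 3 F q), IsCyclic (P : Subgroup (PSU 3 F q)) := cyc_sylow hF hp5 hd
  have hord := hord_three hF hp5 hd
  obtain ⟨r, hr⟩ := CharP.exists F
  have hrF : Fact r.Prime := ⟨CharP.char_is_prime F r⟩
  have hpr : p ≠ r := by
    rintro rfl
    have h1 : ((Nat.card F : ℕ) : ZMod p) = 0 := by
      rw [ZMod.natCast_eq_zero_iff]
      obtain ⟨n, hn, hn'⟩ := FiniteField.card F p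
      rw [Nat.card_eq_fintype_card, hn']
      exact dvd_pow_self p n.2.ne'
    rw [h1] at hord
    have h2 := pow_orderOf_eq_one (0 : ZMod p)
    rw [hord] at h2
    simp at h2
  have hp7 : 5 < p := by
    rcases Nat.lt_or_ge 5 p with h | h
    · exact h
    · exfalso
      have : p = 5 := by omega
      subst this
      exact not_dvd_five hd
  refine m0_false hna h2 hos (TE.of_t2 hZ hT)
    (m0_of_rep H333.HallHig.hh (pr 3 F q) pr_surjective ?_ (rho : Representation F (SU 3 F q) (Fin 3 → F)) rho_injective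
      hpr (by rw [Module.finrank_fin_fun]; omega) hcyc hos (not_fixR hord hg hg1))
  intro z hz
  exact (QuotientGroup.eq_one_iff _).1 (MonoidHom.mem_ker.1 hz)

/-- **Row `PSU_3(q)` of S3854.** -/
theorem noT_psu3 {K : Type*} [Group K] [Finite K] [IsSimpleGroup K] {F : Type} [Field F] [Fintype F] {q : ℕ}
    (hF : Fintype.card F = q ^ 2) (e : Nonempty (K ≃* Cfsg.PSU 3 F q)) {p : ℕ} [Fact p.Prime] (hp : 5 ≤ p) :
    Cfsg.Agent.H959.T5.NoT p K := by
  obtain ⟨e⟩ := e
  have hps : IsSimpleGroup (PSU 3 F q) := e.symm.isSimpleGroup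
  have hq : q ≠ 2 := by
    rintro rfl
    obtain ⟨h1, h2⟩ := Cfsg.Agent.S0282.result (F := F) (by rw [hF]; norm_num)
    have h3 : Nat.card K = 72 := by rw [Nat.card_congr e.toEquiv, h1]
    have h4 : Group.IsSolvable K := Group.isSolvable_of_surjective (f := e.symm.toMonoidHom) e.symm.surjective
    have h5 : (Nat.card K).Prime := by
      have h6 : ∀ a b : K, a * b = b * a := IsSimpleGroup.comm_iff_isSolvable.2 h4
      let _ : CommGroup K := { (inferInstance : Group K) with mul_comm := h6 }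
      exact IsSimpleGroup.prime_card
    rw [h3] at h5
    norm_num at h5
  have hq2 := LieClassical.GUOrder.two_le hF
  have hc := Cfsg.Agent.H394.SqPsu3.card_psu3 hF
  have hna : ¬ IsMulCommutative (PSU 3 F q) := by
    intro hc'
    let _ : CommGroup (PSU 3 F q) := { (inferInstance : Group (PSU 3 F q)) with mul_comm := hc'.is_comm.comm }
    have h1 : (Nat.card (PSU 3 F q)).Prime := IsSimpleGroup.prime_card
    have h3 : Nat.Coprime (q ^ 3) (Nat.gcd 3 (q + 1)) := by
      apply Nat.Coprime.pow_left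
      apply Nat.Coprime.coprime_dvd_right (Nat.gcd_dvd_right _ _)
      rw [Nat.coprime_self_add_right]
      exact Nat.coprime_one_right q
    have h4 : q ^ 3 ∣ Nat.card (PSU 3 F q) := by
      apply h3.dvd_of_dvd_mul_left
      rw [hc]
      exact dvd_mul_right _ _
    have h5 : q ∣ Nat.card (PSU 3 F q) := (dvd_pow_self q three_ne_zero).trans h4
    rcases (Nat.dvd_prime h1).1 h5 with h6 | h6
    · omega
    · rw [← h6] at h4
      have h7 := Nat.le_of_dvd (by omega) h4
      nlinarith [pow_pos (show 0 < q by omega) 3, sq_nonneg q]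
  have h2 : 2 ∣ Nat.card (PSU 3 F q) := by
    have h3 : Nat.Coprime 2 (Nat.gcd 3 (q + 1)) :=
      Nat.Coprime.coprime_dvd_right (Nat.gcd_dvd_left _ _) (by norm_num)
    apply h3.dvd_of_dvd_mul_left
    rw [hc]
    have h4 : 2 ∣ q ^ 3 * (q ^ 3 + 1) := (Nat.even_mul_succ_self (q ^ 3)).two_dvd
    have h5 : q ^ 3 * ((q ^ 2 - 1) * (q ^ 3 + 1)) = q ^ 3 * (q ^ 3 + 1) * (q ^ 2 - 1) := by ring
    rw [h5]
    exact Dvd.dvd.mul_right h4 _
  exact NoT.congr e (noT_psu hF hq hna h2 hp)

end Cfsg.Agent.H248.T5
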